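import Mathlib

/-!
# Commutant of a non-scalar `2 × 2` matrix is commutative; `SL₂` in characteristic two is a CT-group
(helper30)
-/

set_option autoImplicit false

namespace Cfsg.Agent.Lib.Helper30.CT

open Matrix

variable {F : Type*} [Field F]

/-- The three "minor" equations expressing that `a` commutes with `b` (`2 × 2` matrices). -/
theorem minors_of_commute (a b : Matrix (Fin 2) (Fin 2) F) (h : a * b = b * a) :
    a 0 1 * b 1 0 = b 0 1 * a 1 0 ∧
    b 0 1 * (a 0 0 - a 1 1) = a 0 1 * (b 0 0 - b 1 1) ∧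
    b 1 0 * (a 0 0 - a 1 1) = a 1 0 * (b 0 0 - b 1 1) := by
  have h00 := congrFun (congrFun h 0) 0
  have h01 := congrFun (congrFun h 0) 1
  have h10 := congrFun (congrFun h 1) 0
  simp only [Matrix.mul_apply, Fin.sum_univ_two] at h00 h01 h10
  refine ⟨?_, ?_, ?_⟩
  · linear_combination h00
  · linear_combination h01
  · linear_combination (-1 : F) * h10

theorem commute_of_minors (a c : Matrix (Fin 2) (Fin 2) F)
    (h1 : a 0 1 * c 1 0 = c 0 1 * a 1 0)
    (h2 : c 0 1 * (a 0 0 - a 1 1) = a 0 1 * (c 0 0 - c 1 1))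
    (h3 : c 1 0 * (a 0 0 - a 1 1) = a 1 0 * (c 0 0 - c 1 1)) : a * c = c * a := by
  ext i j
  fin_cases i <;> fin_cases j <;>
    simp only [Matrix.mul_apply, Fin.sum_univ_two, Fin.zero_eta, Fin.mk_one, Fin.isValue]
  · linear_combination h1
  · linear_combination h2
  · linear_combination (-1 : F) * h3
  · linear_combination (-1 : F) * h1

/-- Two matrices commuting with a non-scalar `2 × 2` matrix commute. -/
theorem commute_of_commute_nonscalar (b a c : Matrix (Fin 2) (Fin 2) F)
    (hb : b 0 1 ≠ 0 ∨ b 1 0 ≠ 0 ∨ b 0 0 - b 1 1 ≠ 0)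
    (hab : a * b = b * a) (hcb : c * b = b * c) : a * c = c * a := by
  obtain ⟨a1, a2, a3⟩ := minors_of_commute a b hab
  obtain ⟨c1, c2, c3⟩ := minors_of_commute c b hcb
  apply commute_of_minors
  · rcases hb with hb | hb | hb
    · apply mul_left_cancel₀ hb
      linear_combination (-(a 0 1)) * c1 + c 0 1 * a1
    · apply mul_left_cancel₀ hb
      linear_combination (c 1 0) * a1 - (a 1 0) * c1
    · apply mul_left_cancel₀ hb
      apply mul_left_cancel₀ hb
      linear_combination (-(b 0 1) * (a 0 0 - a 1 1)) * c3 + (b 0 1 * (c 0 0 - c 1 1)) * a3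
        - ((b 0 0 - b 1 1) * c 1 0) * a2 + ((b 0 0 - b 1 1) * a 1 0) * c2
  · rcases hb with hb | hb | hb
    · apply mul_left_cancel₀ hb
      linear_combination (c 0 1) * a2 - (a 0 1) * c2
    · apply mul_left_cancel₀ hb
      apply mul_left_cancel₀ hb
      linear_combination (-(b 0 0 - b 1 1)) * ((c 1 0) * a1 - (a 1 0) * c1)
        + (b 1 0 * c 0 1) * a3 - (b 1 0 * a 0 1) * c3
    · apply mul_left_cancel₀ hb
      linear_combination (c 0 0 - c 1 1) * a2 - (a 0 0 - a 1 1) * c2
  · rcases hb with hb | hb | hb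
    · apply mul_left_cancel₀ hb
      apply mul_left_cancel₀ hb
      linear_combination (b 0 0 - b 1 1) * ((-(a 0 1)) * c1 + c 0 1 * a1)
        + (b 0 1 * c 1 0) * a2 - (b 0 1 * a 1 0) * c2
    · apply mul_left_cancel₀ hb
      linear_combination (c 1 0) * a3 - (a 1 0) * c3
    · apply mul_left_cancel₀ hb
      linear_combination (c 0 0 - c 1 1) * a3 - (a 0 0 - a 1 1) * c3

end Cfsg.Agent.Lib.Helper30.CT
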