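import Mathlib
import Cfsg.Agent.Lib.Helper30.CT.Commutant
import Cfsg.Agent.Lib.Helper57.CardSL

/-!
# `SL₂` and `PSL₂` over a field of characteristic two: CT-property, trivial center (helper30)
-/

set_option autoImplicit false

namespace Cfsg.Agent.Lib.Helper30.CT

open Matrix

variable {F : Type*} [Field F]

/-- In characteristic two, an element of `SL(2, F)` different from `1` is not a scalar matrix. -/
theorem nonscalar_of_ne_one [CharP F 2] (b : Matrix.SpecialLinearGroup (Fin 2) F) (hb : b ≠ 1) :
    b.1 0 1 ≠ 0 ∨ b.1 1 0 ≠ 0 ∨ b.1 0 0 - b.1 1 1 ≠ 0 := by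
  by_contra hcon
  push Not at hcon
  obtain ⟨h01, h10, hd⟩ := hcon
  apply hb
  have hdet := b.2
  rw [Matrix.det_fin_two] at hdet
  have h2 : (2 : F) = 0 := by
    have := CharP.cast_eq_zero F 2
    exact_mod_cast this
  have hsq : (b.1 0 0 - 1) ^ 2 = 0 := by
    linear_combination hdet + (b.1 0 0) * hd + (b.1 1 0) * h01 + (1 - b.1 0 0) * h2
  have h00 : b.1 0 0 = 1 := by
    have := pow_eq_zero_iff (two_ne_zero) |>.mp hsq
    linear_combination this
  have h11 : b.1 1 1 = 1 := by linear_combination h00 - hd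
  apply Subtype.ext
  ext i j
  fin_cases i <;> fin_cases j <;> simp [h00, h01, h10, h11]

/-- `SL(2, F)` is a CT-group when `F` has characteristic two. -/
theorem SL2_commute_trans [CharP F 2] (a b c : Matrix.SpecialLinearGroup (Fin 2) F) (hb : b ≠ 1)
    (hab : Commute a b) (hbc : Commute b c) : Commute a c := by
  have h1 : a.1 * b.1 = b.1 * a.1 := by
    have := congrArg Subtype.val hab.eq
    simpa using this
  have h2 : c.1 * b.1 = b.1 * c.1 := by
    have := congrArg Subtype.val hbc.eq.symm
    simpa using this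
  have h := commute_of_commute_nonscalar b.1 a.1 c.1 (nonscalar_of_ne_one b hb) h1 h2
  exact Subtype.ext (by simpa using h)

/-- The center of `SL(2, F)` is trivial in characteristic two. -/
theorem center_SL2_eq_bot [CharP F 2] :
    Subgroup.center (Matrix.SpecialLinearGroup (Fin 2) F) = ⊥ := by
  rw [eq_bot_iff]
  intro A hA
  rw [Matrix.SpecialLinearGroup.mem_center_iff] at hA
  obtain ⟨r, hr, hA⟩ := hA
  rw [Subgroup.mem_bot]
  have h2 : (2 : F) = 0 := by
    have := CharP.cast_eq_zero F 2
    exact_mod_cast this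
  have hr2 : r ^ 2 = 1 := by simpa using hr
  have hsq : (r - 1) ^ 2 = 0 := by
    linear_combination hr2 + (1 - r) * h2
  have hr1 : r = 1 := by
    have := pow_eq_zero_iff (two_ne_zero) |>.mp hsq
    linear_combination this
  apply Subtype.ext
  rw [← hA, hr1]
  simp

/-- `PSL(2, F) ≃* SL(2, F)` in characteristic two. -/
noncomputable def pslEquivSL [CharP F 2] :
    Matrix.ProjectiveSpecialLinearGroup (Fin 2) F ≃* Matrix.SpecialLinearGroup (Fin 2) F :=
  (QuotientGroup.quotientMulEquivOfEq center_SL2_eq_bot).trans QuotientGroup.quotientBot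

/-- A finite field with `2 ^ f` elements, `f ≠ 0`, has characteristic two. -/
theorem charP_two_of_card [Fintype F] (f : ℕ) (hf0 : f ≠ 0) (hf : Fintype.card F = 2 ^ f) : CharP F 2 := by
  apply CharTwo.of_one_ne_zero_of_two_eq_zero one_ne_zero
  have h := Nat.cast_card_eq_zero F
  rw [hf] at h
  push_cast at h
  exact pow_eq_zero_iff (by omega) |>.mp h

/-- `SL(2, F)` has six elements when `F` has two elements. -/
theorem card_SL2_of_card_two [Fintype F] (hF : Fintype.card F = 2) :
    Nat.card (Matrix.SpecialLinearGroup (Fin 2) F) = 6 := by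
  have h := Cfsg.Agent.Lib.Helper57.card_SL_formula (F := F) 2 (by norm_num)
  rw [hF, Fin.prod_univ_two] at h
  simpa using h

end Cfsg.Agent.Lib.Helper30.CT
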